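import Mathlib
import Groth.Prelude.Def_AlgEqCyc
import Groth.Agent.CycDivLib.Ord

/-!
# A cycle with vanishing finite fibres vanishes
-/

set_option autoImplicit false
set_option maxHeartbeats 1000000
set_option linter.style.haveILetI false

universe u

open AlgebraicGeometry CategoryTheory CategoryTheory.Limits IsLocalRing

namespace FibreFunZeroLib

theorem isClosed_singleton_of_finite {P : Type*} [TopologicalSpace P] [JacobsonSpace P] {S : Set P} (hS : IsClosed S)
    (hfin : S.Finite) {z : P} (hz : z ∈ S) : IsClosed ({z} : Set P) := by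
  have hsub : closure ({z} : Set P) ⊆ S := hS.closure_subset_iff.2 (Set.singleton_subset_iff.2 hz)
  have hcl : IsClosed (closure ({z} : Set P) ∩ closedPoints P) := by
    rw [← Set.biUnion_of_singleton (closure ({z} : Set P) ∩ closedPoints P)]
    exact ((hfin.subset hsub).subset Set.inter_subset_left).isClosed_biUnion fun x hx => mem_closedPoints_iff.1 hx.2
  have h := hcl.closure_eq
  rw [JacobsonSpace.closure_inter_closedPoints isClosed_closure] at h
  exact mem_closedPoints_iff.1 (h.le (subset_closure rfl)).2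

variable {k : Type u} [Field k]

/-- The fibre multiplicity at an isolated point of the fibre is nonzero. -/
theorem fibreMult_ne_zero {P C : Scheme.{u}} [IsLocallyNoetherian P] [JacobsonSpace P] (g : P ⟶ C) (v w : P) (h : w ⤳ v)
    (hfin : (closure ({w} : Set P) ∩ g ⁻¹' {g v}).Finite) (hclosed : IsClosed ({g v} : Set C)) :
    AlgEqCyc.fibreMult g v w h ≠ 0 := by
  unfold AlgEqCyc.fibreMult
  let R := P.presheaf.stalk v
  let φ : (C.presheaf.stalk (g v)) →+* Cyc.LocQuot v w h :=
    (Ideal.Quotient.mk (RingHom.ker (Cyc.specMap v w h))).comp (g.stalkMap v).hom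
  let J := (maximalIdeal (C.presheaf.stalk (g v))).map φ
  let M := Cyc.LocQuot v w h ⧸ J
  haveI : IsDomain (Cyc.LocQuot v w h) := CycDivLib.isDomain_locQuot h
  haveI : IsLocalRing (Cyc.LocQuot v w h) := IsLocalRing.of_surjective' _ Ideal.Quotient.mk_surjective
  haveI : IsLocalHom (Ideal.Quotient.mk (RingHom.ker (Cyc.specMap v w h))) :=
    IsLocalHom.of_surjective _ Ideal.Quotient.mk_surjective
  haveI : IsLocalHom φ := RingHom.isLocalHom_comp _ _
  have hJ : J ≠ ⊤ := fun hJ => by
    have := ((IsLocalRing.local_hom_TFAE φ).out 0 2 :).1 inferInstance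
    exact (maximalIdeal.isMaximal _).ne_top (top_le_iff.1 (hJ.ge.trans this))
  haveI : Nontrivial M := Ideal.Quotient.nontrivial_iff.2 hJ
  have hsurj : Function.Surjective (algebraMap R M) := fun m => by
    obtain ⟨x, rfl⟩ := Ideal.Quotient.mk_surjective m
    obtain ⟨r, rfl⟩ := Ideal.Quotient.mk_surjective x
    exact ⟨r, rfl⟩
  haveI : IsNoetherianRing M := isNoetherianRing_of_surjective R M (algebraMap R M) hsurj
  have hmax : ∀ q : Ideal M, q.IsPrime → q.IsMaximal := by
    intro q hq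
    haveI := hq
    let Q : PrimeSpectrum R := ⟨q.comap (algebraMap R M), inferInstance⟩
    let z : P := P.fromSpecStalk v Q
    have hwz : w ∈ (Set.univ : Set P) ∧ w ⤳ z := by
      refine ⟨trivial, ?_⟩
      have h1 : CycDivLib.primeOf h ≤ Q := by
        show (CycDivLib.primeOf h).asIdeal ≤ q.comap (algebraMap R M)
        rw [← CycDivLib.ker_specMap h]
        intro r hr
        show Ideal.Quotient.mk J (Ideal.Quotient.mk _ r) ∈ q
        rw [Ideal.Quotient.eq_zero_iff_mem.2 hr, map_zero]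
        exact zero_mem _
      have h2 := ((PrimeSpectrum.le_iff_specializes _ _).1 h1).map (P.fromSpecStalk v).continuous
      rwa [show P.fromSpecStalk v (CycDivLib.primeOf h) = w from CycDivLib.stalkPt_primeOf h] at h2
    have hzv : z ⤳ v := (Scheme.range_fromSpecStalk (x := v)).le ⟨Q, rfl⟩
    have hgz : g z = g v := by
      have e1 : g (P.fromSpecStalk v Q) = C.fromSpecStalk (g v) (Spec.map (g.stalkMap v) Q) := by
        show (P.fromSpecStalk v ≫ g) Q = (Spec.map (g.stalkMap v) ≫ C.fromSpecStalk (g v)) Q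
        rw [Scheme.SpecMap_stalkMap_fromSpecStalk]
      have e2 : Spec.map (g.stalkMap v) Q = closedPoint (C.presheaf.stalk (g v)) := by
        refine PrimeSpectrum.ext (((maximalIdeal.isMaximal _).eq_of_le (PrimeSpectrum.isPrime _).ne_top fun c hc => ?_).symm)
        show Ideal.Quotient.mk J (Ideal.Quotient.mk _ ((g.stalkMap v).hom c)) ∈ q
        have e : Ideal.Quotient.mk J (φ c) = 0 := Ideal.Quotient.eq_zero_iff_mem.2 (Ideal.mem_map_of_mem φ hc)
        exact (e ▸ zero_mem q : Ideal.Quotient.mk J (φ c) ∈ q)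
      exact e1.trans ((congrArg (fun a => C.fromSpecStalk (g v) a) e2).trans Scheme.fromSpecStalk_closedPoint)
    have hzmem : z ∈ closure ({w} : Set P) ∩ g ⁻¹' {g v} := ⟨specializes_iff_mem_closure.1 hwz.2, hgz⟩
    have hzc := isClosed_singleton_of_finite (isClosed_closure.inter (hclosed.preimage g.continuous)) hfin hzmem
    have hzv' : v = z := hzv.mem_closed hzc (Set.mem_singleton z)
    have hQ : Q = closedPoint R := (P.fromSpecStalk v).isEmbedding.injective (by
      rw [show P.fromSpecStalk v Q = z from rfl, ← hzv']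
      exact Scheme.fromSpecStalk_closedPoint.symm)
    have hQmax : (q.comap (algebraMap R M)).IsMaximal :=
      (show q.comap (algebraMap R M) = maximalIdeal R from congrArg PrimeSpectrum.asIdeal hQ).symm ▸ maximalIdeal.isMaximal R
    rw [← Ideal.map_comap_of_surjective _ hsurj q]
    rcases Ideal.map_eq_top_or_isMaximal_of_surjective _ hsurj hQmax with h' | h'
    · exact absurd (by rwa [Ideal.map_comap_of_surjective _ hsurj] at h') hq.ne_top
    · exact h'
  haveI : Ring.KrullDimLE 0 M := Ring.krullDimLE_zero_iff.2 hmax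
  haveI : IsArtinianRing M := isArtinianRing_iff_krullDimLE_zero.2 inferInstance
  haveI : IsArtinian R M := isArtinian_of_surjective_algebraMap hsurj
  haveI : IsNoetherian R M := isNoetherian_of_surjective (Algebra.linearMap R M) (LinearMap.range_eq_top.2 hsurj)
  have hfl : Module.length R M ≠ ⊤ := Module.length_ne_top_iff.2 (isFiniteLength_iff_isNoetherian_isArtinian.2 ⟨inferInstance, inferInstance⟩)
  have hne : Module.length R M ≠ 0 := by
    exact Module.length_pos.ne'
  intro h0
  rcases ENat.toNat_eq_zero.1 h0 with h1 | h1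
  · exact hne h1
  · exact hfl h1

/-- A cycle whose fibres over the rational points of an open set vanish and are finite vanishes. -/
theorem eq_zero_of_fibreFun {X C : Scheme.{u}} [IsAlgClosed k] (p : X ⟶ Spec (CommRingCat.of k)) (q : C ⟶ Spec (CommRingCat.of k))
    [IsIntegral C] [LocallyOfFiniteType p] [LocallyOfFiniteType q]
    (Γ : AlgebraicCycle (pullback p q) ℤ) (hvert : ∀ ξ, Γ ξ ≠ 0 → pullback.snd p q ξ = genericPoint C)
    (U : C.Opens) (hU : (U : Set C).Nonempty)
    (hfin : ∀ ξ, Γ ξ ≠ 0 → ∀ w ∈ U, (closure {ξ} ∩ pullback.snd p q ⁻¹' {w}).Finite)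
    (hzero : ∀ (u : Spec (CommRingCat.of k) ⟶ C) (hu : u ≫ q = 𝟙 _), u (closedPoint k) ∈ U →
      ∀ x : X, AlgEqCyc.fibreFun p q Γ u hu x = 0) : Γ = 0 := by
  classical
  let P := pullback p q
  let g := pullback.snd p q
  haveI : LocallyOfFiniteType (g ≫ q) := inferInstance
  haveI : IsLocallyNoetherian P := LocallyOfFiniteType.isLocallyNoetherian (g ≫ q)
  haveI : JacobsonSpace P := LocallyOfFiniteType.jacobsonSpace (g ≫ q)
  by_contra hne
  obtain ⟨ξ₁, hξ₁⟩ : ∃ ξ, Γ ξ ≠ 0 := by
    by_contra h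
    push_neg at h
    exact hne (DFunLike.ext _ _ h)
  obtain ⟨V, hV, hξV, -⟩ := exists_isAffineOpen_mem_and_subset (X := P) (x := ξ₁) (U := ⊤) trivial
  have hSfin : ((V : Set P) ∩ Function.support Γ).Finite :=
    (Function.locallyFinsupp.locallyFiniteSupport Γ).finite_inter_support_of_isCompact hV.isCompact
  obtain ⟨ξ₀, ⟨hξ₀V, hξ₀⟩, hξmax⟩ : ∃ ξ₀ ∈ (V : Set P) ∩ Function.support Γ,
      ∀ ξ ∈ (V : Set P) ∩ Function.support Γ, ξ ⤳ ξ₀ → ξ = ξ₀ := by
    letI := specializationPreorder P
    obtain ⟨m, hm⟩ := hSfin.exists_maximal ⟨ξ₁, hξV, hξ₁⟩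
    refine ⟨m, hm.1, fun ξ hξ hs => ?_⟩
    exact ((show m ⤳ ξ from hm.2 hξ hs).antisymm hs).eq.symm
  let others := ((V : Set P) ∩ Function.support Γ) \ {ξ₀}
  let O : Set P := ((V : Set P) ∩ g ⁻¹' U) ∩ (⋃ ξ ∈ others, closure ({ξ} : Set P))ᶜ
  have hO : IsOpen O := (V.2.inter (U.2.preimage g.continuous)).inter
    ((hSfin.subset Set.sdiff_subset).isClosed_biUnion fun _ _ => isClosed_closure).isOpen_compl
  have hξO : ξ₀ ∈ O := by
    refine ⟨⟨hξ₀V, ?_⟩, fun h => ?_⟩
    · show g ξ₀ ∈ U
      rw [hvert ξ₀ hξ₀]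
      exact ((genericPoint_spec C).mem_open_set_iff U.2).2 (by simpa using hU)
    · obtain ⟨ξ, hξ, hmem⟩ := Set.mem_iUnion₂.1 h
      exact hξ.2 (hξmax ξ hξ.1 (specializes_iff_mem_closure.2 hmem))
  obtain ⟨v, ⟨hvO, hvξ⟩, hvc⟩ := nonempty_inter_closedPoints (X := P) (Z := O ∩ closure {ξ₀})
    ⟨ξ₀, hξO, subset_closure rfl⟩ (hO.isLocallyClosed.inter isClosed_closure.isLocallyClosed)
  have hvc' : IsClosed ({v} : Set P) := mem_closedPoints_iff.1 hvc
  let σ : Spec (CommRingCat.of k) ⟶ P := pointOfClosedPoint (g ≫ q) v hvc'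
  have hσ : σ ≫ g ≫ q = 𝟙 _ := pointOfClosedPoint_comp _ _ _
  have hσv : ∀ a, σ a = v := fun a => pointOfClosedPoint_apply _ _ _ a
  let u := σ ≫ g
  have hu : u ≫ q = 𝟙 _ := by rw [Category.assoc, hσ]
  let x : X := pullback.fst p q v
  have hslice : AlgEqCyc.slice p q u hu x = v := by
    have e : (σ ≫ pullback.fst p q) ≫ AlgEqCyc.slice p q u hu = σ := by
      apply pullback.hom_ext
      · rw [AlgEqCyc.slice, Category.assoc, pullback.lift_fst, Category.comp_id]
      · rw [AlgEqCyc.slice, Category.assoc, pullback.lift_snd, ← Category.assoc, Category.assoc σ, pullback.condition,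
          show σ ≫ pullback.snd p q ≫ q = 𝟙 _ from hσ]
        exact Category.id_comp u
    have e2 := congrArg (fun f : Spec (CommRingCat.of k) ⟶ P => f (closedPoint k)) e
    change AlgEqCyc.slice p q u hu (pullback.fst p q (σ (closedPoint k))) = σ (closedPoint k) at e2
    exact ((congrArg (fun a => AlgEqCyc.slice p q u hu (pullback.fst p q a)) (hσv _)).symm.trans e2).trans (hσv _)
  have huv : u (closedPoint k) = g v := by
    exact congrArg g (hσv _)
  have huc : IsClosed ({g v} : Set C) := by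
    rw [← huv]
    exact mem_closedPoints_iff.1 ((pointEquivClosedPoint q) ⟨u, hu⟩).2
  have hgU : g v ∈ U := hvO.1.2
  have h0 := hzero u hu (huv ▸ hgU) x
  have hspec : ξ₀ ⤳ AlgEqCyc.slice p q u hu x := by rw [hslice]; exact specializes_iff_mem_closure.2 hvξ
  unfold AlgEqCyc.fibreFun at h0
  rw [finsum_eq_single _ (⟨ξ₀, hξ₀, hspec⟩ : {w : ↥(pullback p q) // Γ w ≠ 0 ∧ w ⤳ AlgEqCyc.slice p q u hu x})] at h0
  · rcases mul_eq_zero.1 h0 with h | h
    · exact hξ₀ h
    · refine fibreMult_ne_zero g _ ξ₀ hspec ?_ ?_ (by exact_mod_cast h)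
      · rw [hslice]; exact hfin ξ₀ hξ₀ _ hgU
      · rw [hslice]; exact huc
  · rintro ⟨w, hw, hws⟩ hwne
    exfalso
    rw [hslice] at hws
    have hwV : w ∈ (V : Set P) := hws.mem_open V.2 hvO.1.1
    refine hvO.2 (Set.mem_biUnion (show w ∈ others from ⟨⟨hwV, hw⟩, fun e => hwne (Subtype.ext e)⟩) ?_)
    exact specializes_iff_mem_closure.1 hws

end FibreFunZeroLib
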